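import Groth.Agent.AlgSpPoint5.Field
import Groth.Agent.AlgSpDec.EtPointConservative
import Mathlib.CategoryTheory.Sites.Point.Category

/-!
# Every point of the small etale topos is geometric
-/

set_option backward.isDefEq.respectTransparency false
set_option backward.isDefEq.respectTransparency.types false

noncomputable section

universe u

open CategoryTheory CategoryTheory.Limits Opposite AlgebraicGeometry AlgSp Groth.Agent.AlgSpDec Groth.Agent.AlgSpLib

namespace Groth.Agent.AlgSpPoint5

variable {S : Scheme.{u}} {X : Sp S}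

section lifts

variable {p : FieldPt X}

theorem range_lift_subset {E : EtOver X} (l : (FieldPt.liftsTo p).obj E) {W : E.obj.left.left.Opens}
    (h : EtStalkElts.base p ⟨E, l⟩ ∈ W) : Set.range l.1.left ⊆ Set.range W.ι := by
  rintro _ ⟨z, rfl⟩
  rw [Subsingleton.elim z (IsLocalRing.closedPoint p.K)]
  exact W.range_ι.ge h

theorem exists_lift_open {E : EtOver X} (l : (FieldPt.liftsTo p).obj E) {W : E.obj.left.left.Opens}
    (h : EtStalkElts.base p ⟨E, l⟩ ∈ W) :
    ∃ w, (FieldPt.liftsTo p).map (etOpenι E W) w = l := by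
  let k : p.pt ⟶ (etOpen E W).obj.left :=
    CategoryTheory.Over.homMk (IsOpenImmersion.lift W.ι l.1.left (range_lift_subset l h)) (by
      change _ ≫ W.ι ≫ _ = _
      rw [IsOpenImmersion.lift_fac_assoc]
      exact Over.w l.1)
  have hk : k ≫ (etOpenι E W).hom.left = l.1 := Over.OverMorphism.ext (IsOpenImmersion.lift_fac _ _ _)
  refine ⟨⟨k, ?_⟩, Subtype.ext hk⟩
  rw [← EtOver.w (etOpenι E W), ← Category.assoc, ← Functor.map_comp, hk]
  exact l.2

theorem lift_open_injective {E : EtOver X} (W : E.obj.left.left.Opens) :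
    Function.Injective ((FieldPt.liftsTo p).map (etOpenι E W)) := fun w w' h => by
  have h' := congrArg (fun x : (FieldPt.liftsTo p).obj E => x.1.left) h
  exact Subtype.ext (Over.OverMorphism.ext ((cancel_mono W.ι).1 h'))

theorem finite_lifts (hp : p.IsGeometric) {E E' : EtOver X} (g : E' ⟶ E) [QuasiCompact g.hom.left.left]
    (m : (FieldPt.liftsTo p).obj E) :
    Finite {l : (FieldPt.liftsTo p).obj E' // (FieldPt.liftsTo p).map g l = m} := by
  have : IsAlgClosed p.K := hp
  let mk : Spec (CommRingCat.of p.K) ⟶ E.obj.left.left := m.1.left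
  let f := g.hom.left.left
  have : Etale f := EtOver.etale_left g
  have : QuasiCompact f := ‹_›
  have : Etale (pullback.snd f mk) := MorphismProperty.pullback_snd f mk ‹_›
  have : QuasiCompact (pullback.snd f mk) := MorphismProperty.pullback_snd f mk ‹_›
  have : CompactSpace ↥(pullback f mk) := QuasiCompact.compactSpace_of_compactSpace (pullback.snd f mk)
  have : DiscreteTopology ↥(pullback f mk) := by
    have h1 := (pullback.snd f mk).isDiscrete_preimage_singleton (IsLocalRing.closedPoint p.K)
    rw [show (pullback.snd f mk) ⁻¹' {IsLocalRing.closedPoint p.K} = Set.univ from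
      Set.eq_univ_of_forall fun x => Subsingleton.elim _ _] at h1
    exact isDiscrete_univ_iff.1 h1
  have : Finite ↥(pullback f mk) := finite_of_compact_of_discrete
  have hl : ∀ l : {l : (FieldPt.liftsTo p).obj E' // (FieldPt.liftsTo p).map g l = m},
      l.1.1.left ≫ f = 𝟙 _ ≫ mk := fun l =>
    (congrArg (fun x : (FieldPt.liftsTo p).obj E => x.1.left) l.2).trans (Category.id_comp _).symm
  refine Finite.of_injective
    (fun l => pullback.lift l.1.1.left (𝟙 _) (hl l) (IsLocalRing.closedPoint p.K)) fun l l' h => ?_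
  have h2 := ext_of_apply_closedPoint_eq (pullback.snd f mk) (pullback.lift_snd _ _ _) (pullback.lift_snd _ _ _) h
  refine Subtype.ext (Subtype.ext (Over.OverMorphism.ext ?_))
  rw [← pullback.lift_fst _ _ (hl l), h2, pullback.lift_fst]

end lifts

variable (P : GrothendieckTopology.Point.{u} (etTop X))

/-- Lifts along a separated morphism with finitely many of them come from the fibre functor. -/
theorem exists_compare_eq_aux : ∀ (n : ℕ) {E E' : EtOver X} (g : E' ⟶ E) [IsSeparated g.hom.left.left]
    (e : P.fiber.obj E)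
    [Finite {l : (FieldPt.liftsTo (geomPt P)).obj E' // (FieldPt.liftsTo (geomPt P)).map g l = (compare P).app E e}]
    (_ : Nat.card {l : (FieldPt.liftsTo (geomPt P)).obj E' //
      (FieldPt.liftsTo (geomPt P)).map g l = (compare P).app E e} ≤ n)
    (l : (FieldPt.liftsTo (geomPt P)).obj E'), (FieldPt.liftsTo (geomPt P)).map g l = (compare P).app E e →
    ∃ e', P.fiber.map g e' = e ∧ (compare P).app E' e' = l := by
  intro n
  induction n with
  | zero =>
    intro E E' g _ e _ hn l hl
    have : Nonempty {l : (FieldPt.liftsTo (geomPt P)).obj E' //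
      (FieldPt.liftsTo (geomPt P)).map g l = (compare P).app E e} := ⟨⟨l, hl⟩⟩
    exact absurd hn (Nat.not_le.2 Nat.card_pos)
  | succ n ih =>
    intro E E' g _ e _ hn l hl
    obtain ⟨e₁, he₁⟩ := exists_map_eq P g e (by
      rw [← base_compare, ← hl, ← EtPoint.base_liftsTo_map]
      exact ⟨_, rfl⟩)
    have hm₁ : (FieldPt.liftsTo (geomPt P)).map g ((compare P).app E' e₁) = (compare P).app E e := by
      rw [← NatTrans.naturality_apply, he₁]
    by_cases hlm : (compare P).app E' e₁ = l
    · exact ⟨e₁, he₁, hlm⟩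
    let f := g.hom.left.left
    have : Etale f := EtOver.etale_left g
    let d := pullback.diagonal f
    have : Etale (pullback.fst f f) := MorphismProperty.pullback_fst f f ‹_›
    have : IsSeparated (pullback.fst f f) := MorphismProperty.pullback_fst f f ‹_›
    let U : (pullback f f).Opens := ⟨(Set.range d)ᶜ, d.isClosedEmbedding.isClosed_range.isOpen_compl⟩
    let T : Over S := Over.mk ((U.ι ≫ pullback.fst f f) ≫ E'.obj.left.hom)
    let k₁ : T ⟶ E'.obj.left := CategoryTheory.Over.homMk (U.ι ≫ pullback.fst f f) rfl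
    have hc : (U.ι ≫ pullback.snd f f) ≫ f = (U.ι ≫ pullback.fst f f) ≫ f := by
      rw [Category.assoc, Category.assoc, pullback.condition]
    let k₂ : T ⟶ E'.obj.left := CategoryTheory.Over.homMk (U.ι ≫ pullback.snd f f) (by
      show (U.ι ≫ pullback.snd f f) ≫ E'.obj.left.hom = (U.ι ≫ pullback.fst f f) ≫ E'.obj.left.hom
      rw [← Over.w g.hom.left]
      exact (Category.assoc _ _ _).symm.trans ((congrArg (· ≫ E.obj.left.hom) hc).trans (Category.assoc _ _ _)))
    have hk : k₂ ≫ g.hom.left = k₁ ≫ g.hom.left := Over.OverMorphism.ext hc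
    have : Etale k₁.left := inferInstanceAs (Etale (U.ι ≫ pullback.fst f f))
    let V : EtOver X := EtOver.mk ((yon S).map k₁ ≫ E'.obj.hom)
      (repWith_comp ((repWith_yon_map_iff _ _).2 ‹Etale k₁.left›) E'.property)
    let g₁ : V ⟶ E' := EtOver.homMk k₁ rfl
    let g₂ : V ⟶ E' := EtOver.homMk k₂ (by
      show (yon S).map k₂ ≫ E'.obj.hom = (yon S).map k₁ ≫ E'.obj.hom
      rw [← EtOver.w g, ← Category.assoc, ← Category.assoc, ← Functor.map_comp, ← Functor.map_comp, hk])
    have hg : g₂ ≫ g = g₁ ≫ g := EtOver.hom_ext _ _ hk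
    have : IsSeparated g₁.hom.left.left := inferInstanceAs (IsSeparated (U.ι ≫ pullback.fst f f))
    let L := {l : (FieldPt.liftsTo (geomPt P)).obj E' //
      (FieldPt.liftsTo (geomPt P)).map g l = (compare P).app E e}
    let L₁ := {v : (FieldPt.liftsTo (geomPt P)).obj V //
      (FieldPt.liftsTo (geomPt P)).map g₁ v = (compare P).app E' e₁}
    let ψ : L₁ → L := fun v => ⟨(FieldPt.liftsTo (geomPt P)).map g₂ v.1, by
      rw [← Functor.map_comp_apply, hg, Functor.map_comp_apply, v.2, hm₁]⟩
    have hψ : Function.Injective ψ := fun v v' h => by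
      have h2 := congrArg (fun x : L => x.1.1.left) h
      have h1 := congrArg (fun x : (FieldPt.liftsTo (geomPt P)).obj E' => x.1.left) (v.2.trans v'.2.symm)
      refine Subtype.ext (Subtype.ext (Over.OverMorphism.ext ?_))
      refine (cancel_mono U.ι).1 (pullback.hom_ext ?_ ?_)
      · exact (Category.assoc _ _ _).trans (h1.trans (Category.assoc _ _ _).symm)
      · exact (Category.assoc _ _ _).trans (h2.trans (Category.assoc _ _ _).symm)
    have hne : ¬ Function.Surjective ψ := fun hs => by
      obtain ⟨v, hv⟩ := hs ⟨_, hm₁⟩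
      have h2 : v.1.1.left ≫ U.ι ≫ pullback.snd f f = ((compare P).app E' e₁).1.left :=
        congrArg (fun x : L => x.1.1.left) hv
      have h1 : v.1.1.left ≫ U.ι ≫ pullback.fst f f = ((compare P).app E' e₁).1.left :=
        congrArg (fun x : (FieldPt.liftsTo (geomPt P)).obj E' => x.1.left) v.2
      have hd : v.1.1.left ≫ U.ι = ((compare P).app E' e₁).1.left ≫ d := by
        refine pullback.hom_ext ?_ ?_
        · rw [Category.assoc, h1, Category.assoc, pullback.diagonal_fst, Category.comp_id]
        · rw [Category.assoc, h2, Category.assoc, pullback.diagonal_snd, Category.comp_id]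
      have hin : U.ι (v.1.1.left (IsLocalRing.closedPoint (geomPt P).K)) ∈ U :=
        U.range_ι.le ⟨_, rfl⟩
      exact hin ⟨_, (congrArg (fun φ => φ (IsLocalRing.closedPoint (geomPt P).K)) hd).symm⟩
    have : Finite L₁ := Finite.of_injective ψ hψ
    have hlt : Nat.card L₁ < Nat.card L := by
      refine lt_of_le_of_ne (Nat.card_le_card_of_injective ψ hψ) fun heq => hne ?_
      exact ((Nat.bijective_iff_injective_and_card ψ).2 ⟨hψ, heq⟩).2
    let q := pullback.lift ((compare P).app E' e₁).1.left l.1.left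
      (congrArg (fun x : (FieldPt.liftsTo (geomPt P)).obj E => x.1.left) (hm₁.trans hl.symm))
    have hq : Set.range q ⊆ Set.range U.ι := by
      rintro _ ⟨z, rfl⟩
      refine U.range_ι.ge ?_
      rintro ⟨w, hw⟩
      have hsub : Set.range q ⊆ Set.range d := by
        rintro _ ⟨z', rfl⟩
        exact ⟨w, hw.trans (congrArg (fun t => q t) (Subsingleton.elim z z'))⟩
      have h3 := IsOpenImmersion.lift_fac d q hsub
      have hx : IsOpenImmersion.lift d q hsub = ((compare P).app E' e₁).1.left := by
        rw [← Category.comp_id (IsOpenImmersion.lift d q hsub), ← pullback.diagonal_fst f, ← Category.assoc, h3]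
        exact pullback.lift_fst _ _ _
      have hy : IsOpenImmersion.lift d q hsub = l.1.left := by
        rw [← Category.comp_id (IsOpenImmersion.lift d q hsub), ← pullback.diagonal_snd f, ← Category.assoc, h3]
        exact pullback.lift_snd _ _ _
      exact hlm (Subtype.ext (Over.OverMorphism.ext (hx.symm.trans hy)))
    let kv : (geomPt P).pt ⟶ T := CategoryTheory.Over.homMk (IsOpenImmersion.lift U.ι q hq) (by
      show IsOpenImmersion.lift U.ι q hq ≫ (U.ι ≫ pullback.fst f f) ≫ E'.obj.left.hom = _
      rw [Category.assoc, IsOpenImmersion.lift_fac_assoc, pullback.lift_fst_assoc]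
      exact Over.w ((compare P).app E' e₁).1)
    have hkv₁ : kv ≫ k₁ = ((compare P).app E' e₁).1 := Over.OverMorphism.ext (by
      show IsOpenImmersion.lift U.ι q hq ≫ U.ι ≫ pullback.fst f f = _
      rw [IsOpenImmersion.lift_fac_assoc, pullback.lift_fst])
    have hkv₂ : kv ≫ k₂ = l.1 := Over.OverMorphism.ext (by
      show IsOpenImmersion.lift U.ι q hq ≫ U.ι ≫ pullback.snd f f = _
      rw [IsOpenImmersion.lift_fac_assoc, pullback.lift_snd])
    obtain ⟨v', hv'₁, hv'⟩ := ih g₁ e₁ (by have : Nat.card L ≤ n + 1 := hn; show Nat.card L₁ ≤ n; omega)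
      ⟨kv, by
        show (yon S).map kv ≫ (yon S).map k₁ ≫ E'.obj.hom = _
        rw [← Category.assoc, ← Functor.map_comp, hkv₁]
        exact ((compare P).app E' e₁).2⟩ (Subtype.ext hkv₁)
    refine ⟨P.fiber.map g₂ v', ?_, ?_⟩
    · rw [← Functor.map_comp_apply, hg, Functor.map_comp_apply, hv'₁, he₁]
    · rw [NatTrans.naturality_apply, hv']
      exact Subtype.ext hkv₂

theorem surjective_compare_app (E : EtOver X) : Function.Surjective ((compare P).app E) := fun l => by
  let p := geomPt P
  let e₀ := (elt P).2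
  obtain ⟨⟨Q, q⟩, a, b, -⟩ :=
    exists_cone_obj p (⟨E, l⟩ : EtNbhd p) ⟨(elt P).1, (compare P).app _ e₀⟩
  obtain ⟨U, hU, hzU, -⟩ := TopologicalSpace.Opens.isBasis_iff_nbhd.1 (elt P).1.obj.left.left.isBasis_affineOpens
    (U := ⊤) (x := pnt P e₀) trivial
  obtain ⟨e₁, he₁⟩ := (pnt_mem_iff P e₀ U).1 hzU
  have hbq : b.val.hom.left.left (EtStalkElts.base p ⟨Q, q⟩) = pnt P e₀ := by
    rw [EtPoint.base_liftsTo_map b.val q, b.property, base_compare]
  obtain ⟨W, hW, hqW, hWU⟩ := TopologicalSpace.Opens.isBasis_iff_nbhd.1 Q.obj.left.left.isBasis_affineOpens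
    (U := b.val.hom.left.left ⁻¹ᵁ U) (x := EtStalkElts.base p ⟨Q, q⟩) (by
      show b.val.hom.left.left _ ∈ U
      rw [hbq]; exact hzU)
  obtain ⟨q', hq'⟩ := exists_lift_open q hqW
  let g : etOpen Q W ⟶ etOpen (elt P).1 U := openLift (etOpenι Q W ≫ b.val) U (by
    rintro _ ⟨x, rfl⟩
    exact hWU ((range_etOpenι Q W).le ⟨x, rfl⟩))
  have hg : g ≫ etOpenι (elt P).1 U = etOpenι Q W ≫ b.val := openLift_ι _ _ _
  have hgq : (FieldPt.liftsTo p).map g q' = (compare P).app _ e₁ := by
    refine lift_open_injective U ?_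
    rw [← Functor.map_comp_apply, hg, Functor.map_comp_apply, hq', ← NatTrans.naturality_apply, he₁]
    exact b.property
  have : IsAffine (etOpen Q W).obj.left.left := hW
  have : IsAffine (etOpen (elt P).1 U).obj.left.left := hU
  have := finite_lifts (isGeometric_geomPt P) g ((compare P).app _ e₁)
  obtain ⟨e', -, he'⟩ := exists_compare_eq_aux P _ g e₁ le_rfl q' hgq
  refine ⟨P.fiber.map (etOpenι Q W ≫ a.val) e', ?_⟩
  rw [NatTrans.naturality_apply, he', Functor.map_comp_apply, hq']
  exact a.property

theorem injective_compare_app (E : EtOver X) : Function.Injective ((compare P).app E) := fun e e' h => by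
  let p := geomPt P
  obtain ⟨⟨V, v⟩, f, g, -⟩ := IsCofilteredOrEmpty.cone_objs (C := P.fiber.Elements) ⟨E, e⟩ ⟨E, e'⟩
  let N : EtNbhd p := ⟨V, (compare P).app V v⟩
  let f' : N ⟶ ⟨E, (compare P).app E e⟩ := CategoryOfElements.homMk _ _ f.val (by
    show (FieldPt.liftsTo p).map f.val ((compare P).app V v) = _
    rw [← NatTrans.naturality_apply, f.property])
  let g' : N ⟶ ⟨E, (compare P).app E e⟩ := CategoryOfElements.homMk _ _ g.val (by
    show (FieldPt.liftsTo p).map g.val ((compare P).app V v) = _
    rw [← NatTrans.naturality_apply, g.property]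
    exact h.symm)
  obtain ⟨W, k, hk⟩ := exists_cone_map p f' g'
  obtain ⟨w, hw⟩ := exists_map_eq P k.val v (by
    rw [← base_compare]
    refine ⟨EtStalkElts.base p W, (EtPoint.base_liftsTo_map k.val W.2).trans ?_⟩
    exact congrArg (β := ↥V.obj.left.left) (fun x : (FieldPt.liftsTo p).obj V => (EtStalkElts.base p (⟨V, x⟩ : EtNbhd p) : ↥V.obj.left.left)) k.property)
  have hk' : k.val ≫ f.val = k.val ≫ g.val := congrArg (fun x => x.val) hk
  refine f.property.symm.trans (Eq.trans ?_ g.property)
  have hcomp : ∀ {r : V ⟶ E}, P.fiber.map r v = P.fiber.map (k.val ≫ r) w := fun {r} =>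
    (congrArg (P.fiber.map r) hw.symm).trans (Functor.map_comp_apply _ _ _ _).symm
  show P.fiber.map f.val v = P.fiber.map g.val v
  exact hcomp.trans ((congrArg (fun r => P.fiber.map r w) hk').trans hcomp.symm)

instance : IsIso (compare P) := by
  haveI : ∀ E, IsIso ((compare P).app E) := fun E =>
    (isIso_iff_bijective _).2 ⟨injective_compare_app P E, surjective_compare_app P E⟩
  exact NatIso.isIso_of_isIso_app _

end Groth.Agent.AlgSpPoint5
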