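import Groth.Agent.AlgSpDec.EtPoint

/-!
# Points of the small etale topos: the underlying point of a section of the fibre functor
-/

set_option backward.isDefEq.respectTransparency false
set_option backward.isDefEq.respectTransparency.types false

noncomputable section

universe u

open CategoryTheory CategoryTheory.Limits Opposite AlgebraicGeometry AlgSp Groth.Agent.AlgSpDec

namespace Groth.Agent.AlgSpPoint5

variable {S : Scheme.{u}} {X : Sp S}

/-- A morphism with image in an open factors through it. -/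
def openLift {E Y : EtOver X} (f : Y ⟶ E) (W : E.obj.left.left.Opens)
    (h : Set.range f.hom.left.left ⊆ (W : Set ↥E.obj.left.left)) : Y ⟶ etOpen E W :=
  EtOver.homMk (CategoryTheory.Over.homMk (IsOpenImmersion.lift W.ι f.hom.left.left (h.trans W.range_ι.ge)) (by
      change _ ≫ W.ι ≫ _ = _
      rw [IsOpenImmersion.lift_fac_assoc]
      exact Over.w f.hom.left)) (by
    show (yon S).map _ ≫ (yon S).map _ ≫ E.obj.hom = Y.obj.hom
    rw [← Functor.map_comp_assoc]
    refine Eq.trans ?_ (EtOver.w f)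
    congr 2
    exact Over.OverMorphism.ext (IsOpenImmersion.lift_fac _ _ _))

theorem openLift_ι {E Y : EtOver X} (f : Y ⟶ E) (W : E.obj.left.left.Opens)
    (h : Set.range f.hom.left.left ⊆ (W : Set ↥E.obj.left.left)) : openLift f W h ≫ etOpenι E W = f :=
  EtOver.hom_ext _ _ (Over.OverMorphism.ext (IsOpenImmersion.lift_fac _ _ _))

variable (P : GrothendieckTopology.Point.{u} (etTop X))

/-- A section of the fibre functor lifts to an open. -/
def Lifted {E : EtOver X} (e : P.fiber.obj E) (W : E.obj.left.left.Opens) : Prop :=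
  ∃ w, P.fiber.map (etOpenι E W) w = e

theorem lifted_of_hom {E Y : EtOver X} {e : P.fiber.obj E} (f : Y ⟶ E) (y : P.fiber.obj Y)
    (hy : P.fiber.map f y = e) {W : E.obj.left.left.Opens}
    (h : Set.range f.hom.left.left ⊆ (W : Set ↥E.obj.left.left)) : Lifted P e W :=
  ⟨P.fiber.map (openLift f W h) y, by rw [← Functor.map_comp_apply, openLift_ι, hy]⟩

theorem exists_common {E A B : EtOver X} (f : A ⟶ E) (g : B ⟶ E) (a : P.fiber.obj A) (b : P.fiber.obj B)
    (h : P.fiber.map f a = P.fiber.map g b) :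
    ∃ (V : EtOver X) (v : P.fiber.obj V) (r : V ⟶ A) (s : V ⟶ B),
      r ≫ f = s ≫ g ∧ P.fiber.map r v = a ∧ P.fiber.map s v = b := by
  let a' : P.fiber.Elements := ⟨A, a⟩
  let b' : P.fiber.Elements := ⟨B, b⟩
  let e' : P.fiber.Elements := ⟨E, P.fiber.map g b⟩
  let f' : a' ⟶ e' := CategoryOfElements.homMk _ _ f h
  let g' : b' ⟶ e' := CategoryOfElements.homMk _ _ g rfl
  obtain ⟨M, m₁, m₂, -⟩ := IsCofilteredOrEmpty.cone_objs a' b'
  obtain ⟨N, n, hn⟩ := IsCofilteredOrEmpty.cone_maps (m₁ ≫ f') (m₂ ≫ g')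
  refine ⟨N.1, N.2, (n ≫ m₁).val, (n ≫ m₂).val, ?_, (n ≫ m₁).property, (n ≫ m₂).property⟩
  have h1 := congrArg (fun x : N ⟶ e' => x.val) hn
  exact (Category.assoc _ _ _).trans (h1.trans (Category.assoc _ _ _).symm)

theorem lifted_inf {E : EtOver X} {e : P.fiber.obj E} {W W' : E.obj.left.left.Opens} (h : Lifted P e W)
    (h' : Lifted P e W') : Lifted P e (W ⊓ W') := by
  obtain ⟨w, hw⟩ := h
  obtain ⟨w', hw'⟩ := h'
  obtain ⟨V, v, r, s, hrs, hr, hs⟩ := exists_common P _ _ w w' (hw.trans hw'.symm)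
  refine lifted_of_hom P (r ≫ etOpenι E W) v (by rw [Functor.map_comp_apply, hr, hw]) ?_
  rintro _ ⟨x, rfl⟩
  refine ⟨(range_etOpenι E W).le ⟨r.hom.left.left x, rfl⟩, ?_⟩
  rw [hrs]
  exact (range_etOpenι E W').le ⟨s.hom.left.left x, rfl⟩

/-- The union of the opens to which a section does not lift. -/
def outside {E : EtOver X} (e : P.fiber.obj E) : E.obj.left.left.Opens :=
  ⨆ W : {W : E.obj.left.left.Opens // ¬ Lifted P e W}, W.1

theorem not_lifted_outside {E : EtOver X} (e : P.fiber.obj E) : ¬ Lifted P e (outside P e) := by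
  rintro ⟨u₀, hu₀⟩
  let g : ∀ W : {W : E.obj.left.left.Opens // ¬ Lifted P e W}, etOpen E W.1 ⟶ etOpen E (outside P e) := fun W =>
    openLift (etOpenι E W.1) _ (by
      rw [range_etOpenι]
      exact le_iSup (fun V : {V : E.obj.left.left.Opens // ¬ Lifted P e V} => V.1) W)
  have hg : ∀ W, g W ≫ etOpenι E (outside P e) = etOpenι E W.1 := fun W => openLift_ι _ _ _
  have hc : ∀ x : ↥(etOpen E (outside P e)).obj.left.left, ∃ W, x ∈ Set.range (g W).hom.left.left := fun x => by
    obtain ⟨W, hW⟩ := TopologicalSpace.Opens.mem_iSup.1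
      ((range_etOpenι E (outside P e)).le ⟨x, rfl⟩ : (etOpenι E (outside P e)).hom.left.left x ∈ outside P e)
    obtain ⟨y, hy⟩ := (range_etOpenι E W.1).ge hW
    refine ⟨W, y, ?_⟩
    refine (outside P e).ι.isOpenEmbedding.injective ?_
    have := congrArg (fun φ : etOpen E W.1 ⟶ E => φ.hom.left.left y) (hg W)
    exact this.trans hy
  obtain ⟨Y, f, hf, y, hy⟩ := P.jointly_surjective _ (AlgSp.ofArrows_mem_etTop _ g hc) u₀
  obtain ⟨W, k, rfl⟩ := (Sieve.mem_ofArrows_iff _ _ _).1 hf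
  refine W.2 ⟨P.fiber.map k y, ?_⟩
  rw [← hg W, Functor.map_comp_apply, ← Functor.map_comp_apply _ k, hy, hu₀]

theorem lifted_top {E : EtOver X} (e : P.fiber.obj E) : Lifted P e ⊤ :=
  lifted_of_hom P (𝟙 E) e (by simp) (Set.subset_univ _)

theorem lifted_mono {E : EtOver X} {e : P.fiber.obj E} {W W' : E.obj.left.left.Opens} (hle : W ≤ W')
    (h : Lifted P e W) : Lifted P e W' := by
  obtain ⟨w, hw⟩ := h
  exact lifted_of_hom P _ w hw (by rw [range_etOpenι]; exact hle)

theorem lifted_iff {E : EtOver X} (e : P.fiber.obj E) (W : E.obj.left.left.Opens) :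
    Lifted P e W ↔ ((W : Set ↥E.obj.left.left) ∩ (outside P e : Set ↥E.obj.left.left)ᶜ).Nonempty := by
  constructor
  · intro h
    by_contra hn
    refine not_lifted_outside P e (lifted_mono P (fun x hx => ?_) h)
    by_contra hx'
    exact hn ⟨x, hx, hx'⟩
  · rintro ⟨x, hx, hx'⟩
    by_contra hn
    exact hx' (le_iSup (fun V : {V : E.obj.left.left.Opens // ¬ Lifted P e V} => V.1) ⟨W, hn⟩ hx)

theorem isIrreducible_outside_compl {E : EtOver X} (e : P.fiber.obj E) :
    IsIrreducible (outside P e : Set ↥E.obj.left.left)ᶜ := by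
  refine ⟨?_, ?_⟩
  · obtain ⟨x, -, hx⟩ := (lifted_iff P e ⊤).1 (lifted_top P e)
    exact ⟨x, hx⟩
  · intro W W' hW hW' h h'
    rw [Set.inter_comm] at h h' ⊢
    have := (lifted_iff P e (⟨W, hW⟩ ⊓ ⟨W', hW'⟩)).1
      (lifted_inf P ((lifted_iff P e ⟨W, hW⟩).2 h) ((lifted_iff P e ⟨W', hW'⟩).2 h'))
    simpa using this

/-- The point of a scheme of the site under a section of the fibre functor. -/
def pnt {E : EtOver X} (e : P.fiber.obj E) : ↥E.obj.left.left :=
  (isIrreducible_outside_compl P e).genericPoint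

theorem pnt_mem_iff {E : EtOver X} (e : P.fiber.obj E) (W : E.obj.left.left.Opens) :
    pnt P e ∈ W ↔ Lifted P e W := by
  rw [lifted_iff]
  refine ((isIrreducible_outside_compl P e).isGenericPoint_genericPoint_closure.mem_open_set_iff W.isOpen).trans ?_
  rw [(outside P e).isOpen.isClosed_compl.closure_eq, Set.inter_comm]

theorem map_pnt {E E' : EtOver X} (f : E' ⟶ E) (e' : P.fiber.obj E') :
    f.hom.left.left (pnt P e') = pnt P (P.fiber.map f e') := by
  refine Inseparable.eq (inseparable_iff_forall_isOpen.2 fun W hW => ?_)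
  show f.hom.left.left (pnt P e') ∈ (⟨W, hW⟩ : E.obj.left.left.Opens) ↔ pnt P _ ∈ (⟨W, hW⟩ : E.obj.left.left.Opens)
  generalize (⟨W, hW⟩ : E.obj.left.left.Opens) = U
  rw [pnt_mem_iff]
  constructor
  · intro h
    obtain ⟨v, hv⟩ := (pnt_mem_iff P e' (f.hom.left.left ⁻¹ᵁ U)).1 h
    refine lifted_of_hom P (etOpenι E' _ ≫ f) v (by rw [Functor.map_comp_apply, hv]) ?_
    rintro _ ⟨x, rfl⟩
    exact (range_etOpenι E' (f.hom.left.left ⁻¹ᵁ U)).le ⟨x, rfl⟩
  · rintro ⟨w, hw⟩
    refine (pnt_mem_iff P e' (f.hom.left.left ⁻¹ᵁ U)).2 ?_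
    obtain ⟨V, v, r, s, hrs, hr, hs⟩ := exists_common P (etOpenι E U) f w e' hw
    refine lifted_of_hom P s v hs ?_
    rintro _ ⟨x, rfl⟩
    show (s ≫ f).hom.left.left x ∈ U
    rw [← hrs]
    exact (range_etOpenι E U).le ⟨r.hom.left.left x, rfl⟩

/-- A section lifts along every morphism of the site whose image contains its point. -/
theorem exists_map_eq {E E' : EtOver X} (g : E' ⟶ E) (e : P.fiber.obj E)
    (h : pnt P e ∈ Set.range g.hom.left.left) : ∃ e', P.fiber.map g e' = e := by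
  have : Etale g.hom.left.left := EtOver.etale_left g
  let U : E.obj.left.left.Opens := ⟨_, g.hom.left.left.isOpenMap.isOpen_range⟩
  obtain ⟨u₀, hu₀⟩ := (pnt_mem_iff P e U).1 h
  let g' : E' ⟶ etOpen E U := openLift g U subset_rfl
  have hg : g' ≫ etOpenι E U = g := openLift_ι _ _ _
  have hc : ∀ x : ↥(etOpen E U).obj.left.left, ∃ _i : PUnit.{1}, x ∈ Set.range g'.hom.left.left := fun x => by
    obtain ⟨y, hy⟩ := ((range_etOpenι E U).le ⟨x, rfl⟩ : (etOpenι E U).hom.left.left x ∈ U)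
    refine ⟨⟨⟩, y, U.ι.isOpenEmbedding.injective ?_⟩
    exact (congrArg (fun φ : E' ⟶ E => φ.hom.left.left y) hg).trans hy
  obtain ⟨Y, f, hf, y, hy⟩ := P.jointly_surjective _ (AlgSp.ofArrows_mem_etTop (fun _ => E') (fun _ => g') hc) u₀
  obtain ⟨_, k, rfl⟩ := (Sieve.mem_ofArrows_iff _ _ _).1 hf
  refine ⟨P.fiber.map k y, ?_⟩
  rw [← hg, Functor.map_comp_apply, ← Functor.map_comp_apply _ k, hy, hu₀]

end Groth.Agent.AlgSpPoint5
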