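import Groth.Agent.AlgSpPoint5.Fibre
import Mathlib.FieldTheory.IsAlgClosed.AlgebraicClosure
import Mathlib.Algebra.Category.Ring.FilteredColimits
import Mathlib.CategoryTheory.Filtered.FinallySmall

/-!
# Points of the small etale topos: the geometric point
-/

set_option backward.isDefEq.respectTransparency false
set_option backward.isDefEq.respectTransparency.types false

noncomputable section

universe u

open CategoryTheory CategoryTheory.Limits Opposite AlgebraicGeometry AlgSp Groth.Agent.AlgSpDec

namespace Groth.Agent.AlgSpPoint5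

variable {S : Scheme.{u}} {X : Sp S} (P : GrothendieckTopology.Point.{u} (etTop X))

/-- The residue field of the point of an element. -/
abbrev kfield (N : P.fiber.Elements) : CommRingCat.{u} := N.1.obj.left.left.residueField (pnt P N.2)

/-- The map of residue fields attached to a map of elements. -/
def resMap {M N : P.fiber.Elements} (f : M ⟶ N) : kfield P N ⟶ kfield P M :=
  (N.1.obj.left.left.residueFieldCongr (show pnt P N.2 = f.val.hom.left.left (pnt P M.2) by
    rw [map_pnt, f.property])).hom ≫ f.val.hom.left.left.residueFieldMap (pnt P M.2)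

theorem Spec_resMap {M N : P.fiber.Elements} (f : M ⟶ N) :
    Spec.map (resMap P f) ≫ N.1.obj.left.left.fromSpecResidueField (pnt P N.2) =
      M.1.obj.left.left.fromSpecResidueField (pnt P M.2) ≫ f.val.hom.left.left := by
  rw [resMap, Spec.map_comp, Category.assoc, Scheme.residueFieldCongr_fromSpecResidueField]
  exact Scheme.Hom.SpecMap_residueFieldMap_fromSpecResidueField _ _

/-- The residue fields of the points of the elements. -/
def resDiag : P.fiber.Elementsᵒᵖ ⥤ CommRingCat.{u} where
  obj N := kfield P N.unop
  map f := resMap P f.unop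
  map_id N := by
    apply Spec.map_injective
    rw [← cancel_mono (N.unop.1.obj.left.left.fromSpecResidueField (pnt P N.unop.2)), Spec_resMap]
    simp
  map_comp {M N L} f g := by
    apply Spec.map_injective
    rw [← cancel_mono (M.unop.1.obj.left.left.fromSpecResidueField (pnt P M.unop.2)), Spec_resMap,
      Spec.map_comp, Category.assoc, Spec_resMap, ← Category.assoc, Spec_resMap]
    simp

theorem nontrivial_colimit : Nontrivial ↑(colimit (resDiag P)) := by
  haveI : PreservesColimitsOfShape P.fiber.Elementsᵒᵖ (CategoryTheory.forget CommRingCat.{u}) :=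
    Functor.Final.preservesColimitsOfShape_of_final (FinallySmall.fromFilteredFinalModel.{u} _) _
  obtain ⟨N⟩ := IsCofiltered.nonempty (C := P.fiber.Elements)
  refine ⟨colimit.ι (resDiag P) (op N) 0, colimit.ι (resDiag P) (op N) 1, fun h => ?_⟩
  obtain ⟨M, f, g, hfg⟩ := (Concrete.colimit_rep_eq_iff_exists (resDiag P) _ _).1 h
  rw [map_zero, map_one] at hfg
  exact zero_ne_one (α := ↥(M.unop.1.obj.left.left.residueField (pnt P M.unop.2))) hfg

/-- A maximal ideal of the colimit of the residue fields. -/
def colimMax : Ideal ↑(colimit (resDiag P)) :=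
  haveI := nontrivial_colimit P
  (Ideal.exists_maximal _).choose

instance : (colimMax P).IsMaximal :=
  haveI := nontrivial_colimit P
  (Ideal.exists_maximal _).choose_spec

attribute [local instance] Ideal.Quotient.field

/-- The field of the geometric point. -/
def bigK : Type u := AlgebraicClosure (↑(colimit (resDiag P)) ⧸ colimMax P)

instance : Field (bigK P) := inferInstanceAs (Field (AlgebraicClosure _))

instance : IsAlgClosed (bigK P) := inferInstanceAs (IsAlgClosed (AlgebraicClosure _))

/-- The map to the field of the geometric point. -/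
def toK (N : P.fiber.Elements) : kfield P N ⟶ CommRingCat.of (bigK P) :=
  colimit.ι (resDiag P) (op N) ≫
    CommRingCat.ofHom ((algebraMap (↑(colimit (resDiag P)) ⧸ colimMax P)
      (AlgebraicClosure (↑(colimit (resDiag P)) ⧸ colimMax P))).comp (Ideal.Quotient.mk (colimMax P)))

theorem resMap_toK {M N : P.fiber.Elements} (f : M ⟶ N) : resMap P f ≫ toK P M = toK P N :=
  (Category.assoc _ _ _).symm.trans (congrArg (· ≫ _) (colimit.w (resDiag P) f.op))

/-- The geometric point of the scheme of an element. -/
def toScheme (N : P.fiber.Elements) : Spec (CommRingCat.of (bigK P)) ⟶ N.1.obj.left.left :=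
  Spec.map (toK P N) ≫ N.1.obj.left.left.fromSpecResidueField (pnt P N.2)

theorem toScheme_w {M N : P.fiber.Elements} (f : M ⟶ N) : toScheme P M ≫ f.val.hom.left.left = toScheme P N := by
  rw [toScheme, toScheme, Category.assoc, ← Spec_resMap, ← Category.assoc, ← Spec.map_comp, resMap_toK]

theorem toScheme_apply (N : P.fiber.Elements) (s : ↥(Spec (CommRingCat.of (bigK P)))) :
    toScheme P N s = pnt P N.2 := by
  rw [toScheme, Scheme.Hom.comp_apply]
  exact Scheme.fromSpecResidueField_apply _ _

/-- A chosen element. -/
def elt : P.fiber.Elements := (IsCofiltered.nonempty (C := P.fiber.Elements)).some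

/-- The structure morphism of the field. -/
def strK : Spec (CommRingCat.of (bigK P)) ⟶ S := toScheme P (elt P) ≫ (elt P).1.obj.left.hom

theorem toScheme_str (N : P.fiber.Elements) : toScheme P N ≫ N.1.obj.left.hom = strK P := by
  obtain ⟨M, f, g, -⟩ := IsCofilteredOrEmpty.cone_objs N (elt P)
  rw [strK, ← toScheme_w P f, ← toScheme_w P g, Category.assoc, Category.assoc]
  exact congrArg (toScheme P M ≫ ·) ((Over.w f.val.hom.left).trans (Over.w g.val.hom.left).symm)

/-- The geometric point over the base. -/
def toOver (N : P.fiber.Elements) : Over.mk (strK P) ⟶ N.1.obj.left :=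
  CategoryTheory.Over.homMk (toScheme P N) (toScheme_str P N)

theorem toOver_w {M N : P.fiber.Elements} (f : M ⟶ N) : toOver P M ≫ f.val.hom.left = toOver P N :=
  Over.OverMorphism.ext (toScheme_w P f)

/-- The geometric point of the space. -/
def geomPt : FieldPt X :=
  ⟨bigK P, strK P, (J S).uliftYonedaEquiv ((yon S).map (toOver P (elt P)) ≫ (elt P).1.obj.hom)⟩

theorem isGeometric_geomPt : (geomPt P).IsGeometric := (inferInstance : IsAlgClosed (bigK P))

theorem toOver_comp (N : P.fiber.Elements) :
    (yon S).map (toOver P N) ≫ N.1.obj.hom = (geomPt P).toHom := by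
  obtain ⟨M, f, g, -⟩ := IsCofilteredOrEmpty.cone_objs N (elt P)
  refine Eq.trans ?_ (Equiv.symm_apply_apply _ _).symm
  rw [← toOver_w P f, ← toOver_w P g, Functor.map_comp, Functor.map_comp, Category.assoc, Category.assoc,
    EtOver.w f.val, EtOver.w g.val]

/-- The comparison with the lifts of the geometric point. -/
def compare : P.fiber ⟶ FieldPt.liftsTo (geomPt P) where
  app E := ↾fun e => ⟨toOver P ⟨E, e⟩, toOver_comp P ⟨E, e⟩⟩
  naturality E E' g := by
    ext e
    exact Subtype.ext (toOver_w P (CategoryOfElements.homMk (⟨E, e⟩ : P.fiber.Elements) ⟨E', P.fiber.map g e⟩ g rfl)).symm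

theorem base_compare {E : EtOver X} (e : P.fiber.obj E) :
    EtStalkElts.base (geomPt P) ⟨E, (compare P).app E e⟩ = pnt P e :=
  toScheme_apply P ⟨E, e⟩ _

end Groth.Agent.AlgSpPoint5
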